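import Cfsg.Agent.Fi24Mult44.Defs
import Cfsg.Agent.Fi24Mult44.Check.Ve4

set_option autoImplicit false
set_option maxRecDepth 100000

namespace Cfsg.Agent.Fi24Mult44
open Cfsg.Agent.CosetEnum

theorem veChunk12 : allRange veStep 82579 6882 = true := by decide +kernel

end Cfsg.Agent.Fi24Mult44
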